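import Groth.Agent.FixAmpleLib.Main
import Groth.Agent.MultHomLib.Desc

/-!
A group acting faithfully and preserving an ample class is affine.
-/

set_option autoImplicit false
set_option maxRecDepth 8000
set_option maxHeartbeats 2000000
set_option backward.isDefEq.respectTransparency false
set_option linter.style.haveILetI false

noncomputable section

universe u

open CategoryTheory CategoryTheory.Limits MonoidalCategory CartesianMonoidalCategory AlgebraicGeometry TopologicalSpace
open scoped MonObj
open CubeConsLib (PicA pullA clA pullA_clA)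
open SquareLib (pb)

namespace FixAmple

variable {k : Type u} [Field k] [IsAlgClosed k] {G X : Over (Spec (CommRingCat.of k))} [GrpObj G]
  [LocallyOfFiniteType G.hom] [QuasiCompact G.hom] [IsProper X.hom] [IsIntegral X.left]

local notation "pt₁" => 𝟙_ (Over (Spec (CommRingCat.of k)))

theorem isAffine_of_fix (a : AlgGrp.Action G X)
    (hfaith : ∀ (T : Over (Spec (CommRingCat.of k))) (g : T ⟶ G),
      lift (fst T X ≫ g) (snd T X) ≫ a.act = snd T X → g = toUnit T ≫ η[G])
    {L : X.left.Modules} (hL : PicF.IsInvertible L) (hLa : CohB1.IsAmple L)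
    (hfix : ∀ g : pt₁ ⟶ G, pb (lift (toUnit X ≫ g) (𝟙 X) ≫ a.act) (clA hL) = clA hL) : IsAffine G.left := by
  haveI := AlbLib.geometricallyIntegral_of_isIntegral X
  haveI : IsLocallyNoetherian X.left := LocallyOfFiniteType.isLocallyNoetherian X.hom
  let M := AntiAffLib.ker G
  let incl : M ⟶ G := AntiAffLib.kerIncl G
  haveI : IsReduced M.left := AntiAffLib.isReduced_of_antiAff M
  let b : AlgGrp.Action M X :=
    { act := (incl ▷ X) ≫ a.act
      one_act := by
        rw [← comp_whiskerRight_assoc, IsMonHom.one_hom, a.one_act]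
      mul_act := by
        rw [← comp_whiskerRight_assoc, IsMonHom.mul_hom, comp_whiskerRight_assoc, a.mul_act,
          MonoidalCategory.tensorHom_def, comp_whiskerRight_assoc, associator_naturality_middle_assoc,
          associator_naturality_left_assoc, ← MonoidalCategory.whiskerLeft_comp_assoc, ← whisker_exchange_assoc] }
  have hact : ∀ {T : Over (Spec (CommRingCat.of k))} (g : T ⟶ M) (x : T ⟶ X),
      lift g x ≫ b.act = lift (g ≫ incl) x ≫ a.act := fun g x => by
    show lift g x ≫ (incl ▷ X) ≫ a.act = _
    rw [lift_whiskerRight_assoc]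
  obtain ⟨x⟩ := SquareLib.exists_point X
  obtain ⟨n, V, hn, ⟨σ, hσ⟩, hxV, hV⟩ := (AmpleThLib.isAmple_iff (hL := hL)).1 hLa |>.2 (AVRigidLib.pt x)
  subst hσ
  have hF := AmpleThLib.tensorPow_isInvertible hL n
  have hconst : orb b x = toUnit M ≫ x := orb_const b hF (fun g => by
    rw [CubeConsLib.clA_pow hL, map_nsmul, tg, hact, Category.assoc, hfix]) x σ hV hxV
  have hx : b.IsFixedPt x := fun T g => by
    have e := congrArg (g ≫ ·) hconst
    simp only [orb, comp_lift_assoc, Category.comp_id] at e
    rw [← Category.assoc g (toUnit M) x, toUnit_unique (g ≫ toUnit M) (toUnit T)] at e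
    exact e
  have htriv := AntiAffLib.act_eq_snd_of_fixed b x hx
  have hincl : incl = 1 := by
    rw [Hom.one_def]
    refine hfaith M incl ?_
    rw [← hact, lift_fst_snd, Category.id_comp, htriv]
  haveI : Mono (AntiAffLib.toHull G) := ⟨fun {T} g h e => by
    obtain ⟨l, hl⟩ := AntiAffLib.exists_lift G (g * h⁻¹) (by
      rw [MonObj.mul_comp, GrpObj.inv_comp, e, mul_inv_cancel])
    change l ≫ incl = _ at hl
    rw [hincl, MonObj.comp_one] at hl
    exact mul_inv_eq_one.1 hl.symm⟩
  haveI : IsAffine (AntiAffLib.hull G).left := inferInstanceAs (IsAffine (Spec _))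
  haveI : QuasiCompact (AntiAffLib.toHull G).left := by
    haveI : QuasiCompact ((AntiAffLib.toHull G).left ≫ (AntiAffLib.hull G).hom) := by rw [Over.w]; infer_instance
    exact MorphismProperty.of_postcomp (W := @QuasiCompact) (W' := @QuasiSeparated) _ _ inferInstance ‹_›
  haveI := Groth.Agent.MultHom.isIso_of_mono_fs (AntiAffLib.toHull G).left ⟨inferInstance, inferInstance⟩
  exact IsAffine.of_isIso (AntiAffLib.toHull G).left

end FixAmple

end
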