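import Groth.Agent.SquareLib.Main
import Groth.Agent.CubeConsLib.Seesaw
import Groth.Agent.AntiAffLib.FixActs
import Groth.Agent.AntiAffLib.Kernel
import Groth.Agent.AntiAffLib.Smooth
import Groth.Agent.AntiAffLib.Basics2
import Groth.Agent.AlbLib.AlgClosed
import Groth.Agent.AmpleDevLib.Pull
import Groth.Agent.AmpleThLib.Locus
import Groth.Agent.AVVanishLib.AlgZero
import Groth.Agent.AVRigidLib.Core

/-!
An action preserving an ample class: the anti-affine part acts trivially.
-/

set_option autoImplicit false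
set_option maxRecDepth 8000
set_option maxHeartbeats 2000000
set_option backward.isDefEq.respectTransparency false
set_option linter.style.haveILetI false

noncomputable section

universe u

open CategoryTheory CategoryTheory.Limits MonoidalCategory CartesianMonoidalCategory AlgebraicGeometry TopologicalSpace
open scoped MonObj
open TwistLib (genSet)
open CubeConsLib (PicA pullA clA clA_eq_iff clA_tensor pullA_clA clA_one isInvertible_one)
open SquareLib (pb pb_comp pb_id pb_point clA_mem)

namespace FixAmple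

variable {k : Type u} [Field k] [IsAlgClosed k] {M X : Over (Spec (CommRingCat.of k))} [GrpObj M]

local notation "pt₁" => 𝟙_ (Over (Spec (CommRingCat.of k)))

/-- Translation by a rational point. -/
abbrev tg (a : AlgGrp.Action M X) (g : pt₁ ⟶ M) : X ⟶ X := lift (toUnit X ≫ g) (𝟙 X) ≫ a.act

/-- The orbit morphism. -/
abbrev orb (a : AlgGrp.Action M X) (x : pt₁ ⟶ X) : M ⟶ X := lift (𝟙 M) (toUnit M ≫ x) ≫ a.act

theorem lift_assoc_act (a : AlgGrp.Action M X) {T : Over (Spec (CommRingCat.of k))} (g h : T ⟶ M) (x : T ⟶ X) :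
    lift (g * h) x ≫ a.act = lift g (lift h x ≫ a.act) ≫ a.act := by
  have e := congrArg (lift (lift g h) x ≫ ·) a.mul_act
  simp only [lift_whiskerRight_assoc] at e
  rw [Hom.mul_def]
  refine e.trans ?_
  rw [← Category.assoc, lift_lift_associator_hom, ← Category.assoc, lift_whiskerLeft]

theorem lift_one_act (a : AlgGrp.Action M X) {T : Over (Spec (CommRingCat.of k))} (x : T ⟶ X) :
    lift (1 : T ⟶ M) x ≫ a.act = x := by
  have e := congrArg (lift (toUnit T) x ≫ ·) a.one_act
  simp only [lift_whiskerRight_assoc] at e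
  rw [Hom.one_def]
  refine e.trans ?_
  rw [lift_leftUnitor_hom]

theorem lift_inv_orb (a : AlgGrp.Action M X) (x : pt₁ ⟶ X) :
    lift (𝟙 M) ((𝟙 M)⁻¹ ≫ orb a x) ≫ a.act = toUnit M ≫ x := by
  rw [orb, comp_lift_assoc, Category.comp_id, ← Category.assoc, toUnit_unique (((𝟙 M)⁻¹) ≫ toUnit M) (toUnit M),
    ← lift_assoc_act, mul_inv_cancel, lift_one_act]

variable [LocallyOfFiniteType M.hom] [IsReduced M.left] [IsProper X.hom] [GeometricallyIntegral X.hom]
  (a : AlgGrp.Action M X) {F : X.left.Modules} (hF : PicF.IsInvertible F)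

/-- The class of the orbit is odd. -/
theorem orb_odd (hfix : ∀ g : pt₁ ⟶ M, pb (tg a g) (clA hF) = clA hF) (x : pt₁ ⟶ X) :
    pb (orb a x) (clA hF) + pb (𝟙 M)⁻¹ (pb (orb a x) (clA hF)) = 0 := by
  haveI : IsProper (fst M X).left := by dsimp; infer_instance
  haveI : Flat X.hom := inferInstance
  haveI : Flat (fst M X).left := by dsimp; infer_instance
  haveI : GeometricallyIntegral (fst M X).left := by dsimp; infer_instance
  haveI : IsLocallyNoetherian M.left := LocallyOfFiniteType.isLocallyNoetherian M.hom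
  haveI : JacobsonSpace M.left := LocallyOfFiniteType.jacobsonSpace M.hom
  have h₁ := AmpleDevLib.isInvertible_pb a.act.left hF
  have h₂ := AmpleDevLib.isInvertible_pb (snd M X).left hF
  obtain ⟨N, hN, e⟩ := CubeConsLib.seesaw_closedPoints (fst M X).left h₁ h₂ fun y hy => by
    obtain ⟨g, rfl⟩ : ∃ g : pt₁ ⟶ M, AVRigidLib.pt g = y :=
      ⟨Over.homMk (pointOfClosedPoint M.hom y hy) (pointOfClosedPoint_comp M.hom y hy), pointOfClosedPoint_apply M.hom y hy _⟩
    let jj := pullback.fst (fst M X).left (M.left.fromSpecResidueField (AVRigidLib.pt g))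
    have hfac : jj = (jj ≫ (snd M X).left) ≫ (lift (toUnit X ≫ g) (𝟙 X)).left := by
      have h0 := CubeConsLib.fromSpecResidueField_closedPoint M.hom g.left (Over.w g)
      have hι : jj ≫ (fst M X).left = ((jj ≫ (fst M X).left) ≫ M.hom) ≫ g.left := by
        have hc : jj ≫ (fst M X).left = pullback.snd (fst M X).left _ ≫ M.left.fromSpecResidueField (AVRigidLib.pt g) :=
          pullback.condition
        refine (hc.trans (congrArg (pullback.snd (fst M X).left _ ≫ ·) h0)).trans ?_
        rw [hc]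
        simp only [Category.assoc]
        rfl
      apply pullback.hom_ext
      · rw [Category.assoc]
        refine hι.trans ?_
        rw [show pullback.fst M.hom X.hom = (fst M X).left from rfl, ← Over.comp_left, lift_fst,
          Over.comp_left, AntiAffLib.toUnit_left]
        simp only [Category.assoc]
        congr 1
        rw [← Category.assoc, ← Category.assoc, Over.w (fst M X), Over.w (snd M X)]
      · rw [Category.assoc]
        show jj ≫ (snd M X).left = (jj ≫ (snd M X).left) ≫ (lift (toUnit X ≫ g) (𝟙 X)).left ≫ (snd M X).left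
        rw [← Over.comp_left, lift_snd, Over.id_left, Category.comp_id]
    rw [← clA_eq_iff (AmpleDevLib.isInvertible_pb _ h₁) (AmpleDevLib.isInvertible_pb _ h₂), ← pullA_clA _ h₁, ← pullA_clA _ h₂,
      ← pullA_clA _ hF, ← pullA_clA _ hF]
    show pullA jj _ = pullA jj _
    rw [CubeConsLib.pullA_comp, CubeConsLib.pullA_comp]
    have hact : jj ≫ a.act.left = (jj ≫ (snd M X).left) ≫ (tg a g).left := by
      conv_lhs => rw [hfac]
      rw [tg, Over.comp_left, Category.assoc]
    rw [hact, ← CubeConsLib.pullA_comp]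
    conv_rhs => rw [← CubeConsLib.pullA_comp]
    exact (congrArg (pullA (jj ≫ (snd M X).left)) (hfix g)).trans (CubeConsLib.pullA_comp _ _ _).symm
  have hD : pb a.act (clA hF) = pb (snd M X) (clA hF) + pb (fst M X) (clA hN) := by
    have h3 : clA h₁ = clA (HilbPolyLib.isInvertible_tensor h₂ (AmpleDevLib.isInvertible_pb (fst M X).left hN)) :=
      (clA_eq_iff _ _).2 e
    rw [clA_tensor h₂ (AmpleDevLib.isInvertible_pb (fst M X).left hN), ← pullA_clA _ hF, ← pullA_clA _ hF, ← pullA_clA _ hN] at h3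
    exact h3
  have h4 : ∀ φ : M ⟶ X, pb (lift (𝟙 M) φ ≫ a.act) (clA hF) = pb φ (clA hF) + clA hN := fun φ => by
    have h := congrArg (pb (lift (𝟙 M) φ)) hD
    rw [map_add, pb_comp, pb_comp, pb_comp, lift_snd, lift_fst, pb_id] at h
    exact h
  have h5 : pb (orb a x) (clA hF) = clA hN := by
    rw [orb, h4, pb_point _ (clA_mem hF), zero_add]
  have h6 := h4 ((𝟙 M)⁻¹ ≫ orb a x)
  rw [lift_inv_orb, pb_point _ (clA_mem hF), ← pb_comp, ← h5] at h6
  rw [add_comm]
  exact h6.symm

variable [hM : AntiAffLib.IsΓIso (toUnit M)]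

/-- An orbit meeting an affine locus of a section stays in it, hence is a point. -/
theorem orb_const (hfix : ∀ g : pt₁ ⟶ M, pb (tg a g) (clA hF) = clA hF) (x : pt₁ ⟶ X) (σ : Γ(F, ⊤))
    (hU : IsAffineOpen (genSet hF σ)) (hx : AVRigidLib.pt x ∈ genSet hF σ) : orb a x = toUnit M ≫ x := by
  let f := orb a x
  have he : (1 : pt₁ ⟶ M) ≫ f = x := by
    show (1 : pt₁ ⟶ M) ≫ lift (𝟙 M) (toUnit M ≫ x) ≫ a.act = x
    rw [comp_lift_assoc, Category.comp_id, ← Category.assoc, toUnit_unique (_ ≫ toUnit M) (𝟙 _), Category.id_comp,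
      lift_one_act]
  let P := (Scheme.Modules.pullback f.left).obj F
  have hP : PicF.IsInvertible P := AmpleDevLib.isInvertible_pb _ hF
  let τ : Γ(P, ⊤) := KFlatLib.puSec f.left σ
  have hτ : genSet hP τ = f.left ⁻¹ᵁ genSet hF σ := AmpleDevLib.genSet_puSec f.left hF σ
  let i : M ⟶ M := (𝟙 M)⁻¹
  have hQ := AmpleDevLib.isInvertible_pb i.left hP
  let τ' : Γ((Scheme.Modules.pullback i.left).obj P, ⊤) := KFlatLib.puSec i.left τ
  have hτ' : genSet hQ τ' = i.left ⁻¹ᵁ genSet hP τ := AmpleDevLib.genSet_puSec i.left hP τ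
  obtain ⟨e⟩ : Nonempty (CohB1.tensorMod P ((Scheme.Modules.pullback i.left).obj P) ≅ Coh.structureModule M.left) := by
    rw [← clA_eq_iff (HilbPolyLib.isInvertible_tensor hP hQ) (isInvertible_one _), clA_tensor hP hQ, ← pullA_clA _ hP,
      ← pullA_clA _ hF, clA_one]
    exact orb_odd a hF hfix x
  let w : Γ(Coh.structureModule M.left, ⊤) := e.hom.app ⊤ (AmpleLib.shT τ τ')
  have hw : genSet (isInvertible_one M.left) w = f.left ⁻¹ᵁ genSet hF σ ⊓ i.left ⁻¹ᵁ (f.left ⁻¹ᵁ genSet hF σ) := by
    refine (AmpleThLib.genSet_iso (AmpleThLib.shT_isInvertible hP hQ) (isInvertible_one M.left) e _).trans ?_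
    rw [AmpleThLib.genSet_shT hP hQ τ τ', hτ', hτ]
  have hb : genSet (isInvertible_one M.left) w = M.left.basicOpen (show Γ(M.left, ⊤) from w) := by
    have h := AmpleThLib.mem_genSet_coeff (isInvertible_one M.left) w (AmpleLib.one_genOn ⊤) (r := (show Γ(M.left, ⊤) from w))
      (by rw [AmpleLib.res_refl]; exact mul_one (show Γ(M.left, ⊤) from w))
    rwa [inf_top_eq] at h
  obtain ⟨r, hr⟩ := ((ConcreteCategory.isIso_iff_bijective _).1 hM.iso).2 (show Γ(M.left, ⊤) from w)
  have hne : AVRigidLib.pt (1 : pt₁ ⟶ M) ∈ genSet (isInvertible_one M.left) w := by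
    rw [hw]
    refine ⟨?_, ?_⟩
    · show f.left (AVRigidLib.pt 1) ∈ genSet hF σ
      rw [← AVRigidLib.pt_comp, he]; exact hx
    · show f.left (i.left (AVRigidLib.pt 1)) ∈ genSet hF σ
      rw [← AVRigidLib.pt_comp, GrpObj.comp_inv, Category.comp_id, inv_one, ← AVRigidLib.pt_comp, he]
      exact hx
  have htop : f.left ⁻¹ᵁ genSet hF σ = ⊤ := by
    rw [eq_top_iff]
    intro m _
    have hm : m ∈ M.left.basicOpen (show Γ(M.left, ⊤) from w) := by
      rw [hb, ← hr, ← Scheme.preimage_basicOpen_top] at hne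
      rw [← hr, ← Scheme.preimage_basicOpen_top]
      have hne' : (toUnit M).left (AVRigidLib.pt (1 : pt₁ ⟶ M)) ∈ Scheme.basicOpen (pt₁).left r := hne
      show (toUnit M).left m ∈ Scheme.basicOpen (pt₁).left r
      rwa [Subsingleton.elim (α := PrimeSpectrum k) ((toUnit M).left m) ((toUnit M).left (AVRigidLib.pt (1 : pt₁ ⟶ M)))]
    rw [← hb, hw] at hm
    exact hm.1
  let U := genSet hF σ
  haveI : IsAffine U.toScheme := hU
  let Z : Over (Spec (CommRingCat.of k)) := Over.mk (U.ι ≫ X.hom)
  haveI : IsAffine Z.left := hU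
  let g : M.left ⟶ U.toScheme := IsOpenImmersion.lift U.ι f.left (by
    rw [Scheme.Opens.range_ι]; rintro _ ⟨m, rfl⟩; exact htop.ge (trivial : m ∈ (⊤ : M.left.Opens)))
  have hg : g ≫ U.ι = f.left := IsOpenImmersion.lift_fac _ _ _
  let gg : M ⟶ Z := Over.homMk g (by show g ≫ U.ι ≫ X.hom = _; rw [← Category.assoc, hg]; exact Over.w f)
  let j : Z ⟶ X := Over.homMk U.ι rfl
  have hf : gg ≫ j = f := Over.OverMorphism.ext hg
  have hc := congrArg (· ≫ j) (AntiAffLib.eq_const gg (1 : pt₁ ⟶ M))
  simp only [Category.assoc, hf] at hc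
  rw [he] at hc
  exact hc

end FixAmple

end
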